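import Mathlib
import Cfsg.Agent.Lib.Comput.NetModel

/-! generated by tools/cgt -/

set_option autoImplicit false
set_option maxRecDepth 100000
set_option Elab.async false

namespace CfsgLib.MultC.M23.C

open CfsgLib.Comput

noncomputable def n0 : Net :=
  Net.cons 1 0x404510
  (Net.cons 2 0x222000
  (Net.cons 4 0x50000
  (Net.cons 8 0x50
  (Net.cons 16 0xf9
  (Net.cons 8 0xd6
  (Net.cons 4 0x70a09
  (Net.cons 2 0x232333
  (Net.cons 1 0x410050
  (Net.nil)))))))))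

noncomputable def n2 : Net :=
  Net.cons 1 0x411550
  (Net.cons 2 0x322110
  (Net.cons 4 0xb0300
  (Net.cons 8 0x8c
  (Net.cons 16 0xbc
  (Net.cons 8 0xb
  (Net.cons 4 0x50e06
  (Net.cons 2 0x123200
  (Net.cons 1 0x500051
  (Net.nil)))))))))

noncomputable def n4 : Net :=
  Net.cons 1 0x541040
  (Net.cons 2 0x122200
  (Net.cons 4 0x80000
  (Net.cons 8 0x48
  (Net.cons 16 0x4a
  (Net.cons 8 0xce
  (Net.cons 4 0xc010c
  (Net.cons 2 0x320300
  (Net.cons 1 0x450054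
  (Net.nil)))))))))

noncomputable def n6 : Net :=
  Net.cons 1 0x40054
  (Net.cons 2 0x101200
  (Net.cons 4 0x10300
  (Net.cons 8 0x2d
  (Net.cons 16 0x6f
  (Net.cons 8 0x39
  (Net.cons 4 0x10d0a
  (Net.cons 2 0x1322
  (Net.cons 1 0x154510
  (Net.nil)))))))))

noncomputable def n8 : Net :=
  Net.cons 1 0x555100
  (Net.cons 2 0x202020
  (Net.cons 4 0xe0100
  (Net.cons 8 0x42
  (Net.cons 16 0x7a
  (Net.cons 8 0xde
  (Net.cons 4 0xc0904
  (Net.cons 2 0x12310
  (Net.cons 1 0x555100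
  (Net.nil)))))))))

noncomputable def n10 : Net :=
  Net.cons 1 0x14100
  (Net.cons 2 0x10220
  (Net.cons 4 0x900
  (Net.cons 8 0x27
  (Net.cons 16 0x6f
  (Net.cons 8 0x3b
  (Net.cons 4 0x50e08
  (Net.cons 2 0x130220
  (Net.cons 1 0x101140
  (Net.nil)))))))))

noncomputable def n12 : Net :=
  Net.cons 1 0x411000
  (Net.cons 2 0x112320
  (Net.cons 4 0xc0400
  (Net.cons 8 0x24
  (Net.cons 16 0x6c
  (Net.cons 8 0x14
  (Net.cons 4 0x40800
  (Net.cons 2 0x111100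
  (Net.cons 1 0x500110
  (Net.nil)))))))))

noncomputable def n14 : Net :=
  Net.cons 1 0x15000
  (Net.cons 2 0x213120
  (Net.cons 4 0xb0200
  (Net.cons 8 0x1c
  (Net.cons 16 0xbc
  (Net.cons 8 0xa4
  (Net.cons 4 0x70500
  (Net.cons 2 0x300210
  (Net.cons 1 0x105410
  (Net.nil)))))))))

noncomputable def n16 : Net :=
  Net.cons 1 0x45100
  (Net.cons 2 0x331100
  (Net.cons 4 0x30100
  (Net.cons 8 0x30
  (Net.cons 16 0xf0
  (Net.cons 8 0x60
  (Net.cons 4 0x60400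
  (Net.cons 2 0x220210
  (Net.cons 1 0x45100
  (Net.nil)))))))))

noncomputable def n17 : Net :=
  Net.cons 1 0x114000
  (Net.cons 2 0x210000
  (Net.cons 4 0x50000
  (Net.cons 8 0xf
  (Net.cons 16 0x9f
  (Net.cons 8 0x4f
  (Net.cons 4 0x50000
  (Net.cons 2 0x330300
  (Net.cons 1 0x115000
  (Net.nil)))))))))

noncomputable def n18 : Net :=
  Net.cons 1 0x100140
  (Net.cons 2 0x310200
  (Net.cons 4 0x60800
  (Net.cons 8 0x85
  (Net.cons 16 0xb5
  (Net.cons 8 0x65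
  (Net.cons 4 0xb0900
  (Net.cons 2 0x312230
  (Net.cons 1 0x144010
  (Net.nil)))))))))

noncomputable def n20 : Net :=
  Net.cons 1 0x414040
  (Net.cons 2 0x100000
  (Net.cons 8 0x20
  (Net.cons 16 0xa0
  (Net.cons 8 0x20
  (Net.cons 4 0x40500
  (Net.cons 2 0x121310
  (Net.cons 1 0x414040
  (Net.nil))))))))

noncomputable def n21 : Net :=
  Net.cons 1 0x54500
  (Net.cons 2 0x102100
  (Net.cons 4 0x10c00
  (Net.cons 8 0xf
  (Net.cons 16 0xf
  (Net.cons 8 0xdf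
  (Net.cons 4 0x10c00
  (Net.cons 2 0x102100
  (Net.cons 1 0x154500
  (Net.nil)))))))))

noncomputable def n22 : Net :=
  Net.cons 1 0x500400
  (Net.cons 2 0x302000
  (Net.cons 4 0xb0800
  (Net.cons 8 0xe
  (Net.cons 16 0xde
  (Net.cons 8 0xe
  (Net.cons 4 0xb0300
  (Net.cons 2 0x100200
  (Net.cons 1 0x500400
  (Net.nil)))))))))

noncomputable def W : List Net := [n0, n0.rev, n2, n2.rev, n4, n4.rev, n6, n6.rev, n8, n8.rev, n10, n10.rev, n12, n12.rev, n14, n14.rev, n16, n17, n18, n18.rev, n20, n21, n22]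

theorem W_ok : allL (Net.ok 24) W = true := by decide +kernel

end CfsgLib.MultC.M23.C
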