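import Mathlib
import Cfsg.Agent.Lib.Comput.Check3
import Cfsg.Agent.Lib.MultC.M23.C.Data

/-! generated by tools/cgt -/

set_option autoImplicit false
set_option maxRecDepth 100000
set_option Elab.async false

namespace CfsgLib.MultC.M23.C

open CfsgLib.Comput

def R5_0 : RepC := ⟨21, 1, [],
  []⟩
def R5_1 : RepC := ⟨18, 1, [],
  []⟩
def R5_2 : RepC := ⟨22, 1, [],
  []⟩
def R5_3 : RepC := ⟨23, 1, [],
  []⟩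
def R5_4 : RepC := ⟨0x1215, 1, [],
  []⟩
def R5_5 : RepC := ⟨0x1615, 1, [],
  []⟩
def R5_6 : RepC := ⟨0x1715, 1, [],
  []⟩
def R5_7 : RepC := ⟨0x1612, 1, [],
  []⟩
def R5_8 : RepC := ⟨0x1712, 1, [],
  []⟩
def R5_9 : RepC := ⟨0x1716, 1, [],
  []⟩
def R5_10 : RepC := ⟨0x161215, 1, [],
  []⟩
def R5_11 : RepC := ⟨0x171215, 1, [],
  []⟩
def R5_12 : RepC := ⟨0x171615, 1, [],
  []⟩
def R5_13 : RepC := ⟨0x171612, 1, [],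
  []⟩
def R5_14 : RepC := ⟨0x17161215, 1, [],
  []⟩
def S5_0 : GenC := ⟨21, [],
  [(0, 0, 0, 1, 0), (0, 1, 0, 0, 0), (0, 2, 0, 5, 0), (0, 3, 0, 6, 0), (0, 4, 0, 7, 0), (0, 5, 0, 2, 0), (0, 6, 0, 3, 0), (0, 7, 0, 4, 0), (0, 8, 0, 11, 0), (0, 9, 0, 12, 0), (0, 10, 0, 13, 0), (0, 11, 0, 8, 0), (0, 12, 0, 9, 0), (0, 13, 0, 10, 0), (0, 14, 0, 15, 0), (0, 15, 0, 14, 0)], 0⟩
def S5_1 : GenC := ⟨18, [],
  [(0, 0, 0, 2, 0), (0, 1, 0, 5, 0), (0, 2, 0, 0, 0), (0, 3, 0, 8, 0), (0, 4, 0, 9, 0), (0, 5, 0, 1, 0), (0, 6, 0, 11, 0), (0, 7, 0, 12, 0), (0, 8, 0, 3, 0), (0, 9, 0, 4, 0), (0, 10, 0, 14, 0), (0, 11, 0, 6, 0), (0, 12, 0, 7, 0), (0, 13, 0, 15, 0), (0, 14, 0, 10, 0), (0, 15, 0, 13, 0)], 0⟩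
def S5_2 : GenC := ⟨22, [],
  [(0, 0, 0, 3, 0), (0, 1, 0, 6, 0), (0, 2, 0, 8, 0), (0, 3, 0, 0, 0), (0, 4, 0, 10, 0), (0, 5, 0, 11, 0), (0, 6, 0, 1, 0), (0, 7, 0, 13, 0), (0, 8, 0, 2, 0), (0, 9, 0, 14, 0), (0, 10, 0, 4, 0), (0, 11, 0, 5, 0), (0, 12, 0, 15, 0), (0, 13, 0, 7, 0), (0, 14, 0, 9, 0), (0, 15, 0, 12, 0)], 0⟩
def S5_3 : GenC := ⟨23, [],
  [(0, 0, 0, 4, 0), (0, 1, 0, 7, 0), (0, 2, 0, 9, 0), (0, 3, 0, 10, 0), (0, 4, 0, 0, 0), (0, 5, 0, 12, 0), (0, 6, 0, 13, 0), (0, 7, 0, 1, 0), (0, 8, 0, 14, 0), (0, 9, 0, 2, 0), (0, 10, 0, 3, 0), (0, 11, 0, 15, 0), (0, 12, 0, 5, 0), (0, 13, 0, 6, 0), (0, 14, 0, 8, 0), (0, 15, 0, 11, 0)], 0⟩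
def L5 : Level := ⟨0x0, 0x720000, [], 1, 4, 0, 16, [R5_0, R5_1, R5_2, R5_3, R5_4, R5_5, R5_6, R5_7, R5_8, R5_9, R5_10, R5_11, R5_12, R5_13, R5_14], [S5_0, S5_1, S5_2, S5_3]⟩
def X5 : Ext := []

def R4_0 : RepC := ⟨19, 1, [(22, 21), (23, 0x1612), (0x1715, 0x1215), (0x17161215, 0x171615)],
  [(13, 1, [1, 2, 3, 4])]⟩
def R4_1 : RepC := ⟨20, 1, [(18, 0x171615), (21, 22), (23, 0x171612), (22, 0x1615)],
  [(16, 1, [1, 2, 3, 4])]⟩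
def S4_0 : GenC := ⟨20, [(21, 0x1615)],
  [(0, 0, 0, 2, 0), (0, 1, 0, 0, 0), (0, 2, 0, 1, 0)], 0⟩
def L4 : Level := ⟨0x720000, 0x7f0000, [21, 18, 22, 23], 16, 5, 0, 3, [R4_0, R4_1], [S4_0]⟩
def X4 : Ext := [(18, 20, 0), (16, 0, 0x1612)]

def R3_0 : RepC := ⟨0xf150e, 3, [(18, 22), (0x1712, 0x1716), (22, 18), (0x1615, 0x171215)],
  [(11, 1, [1, 2, 3, 4])]⟩
def R3_1 : RepC := ⟨13, 16, [(0x131715, 0x1415)],
  [(11, 2, [1])]⟩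
def S3_0 : GenC := ⟨14, [(0x131715, 0x1415)],
  [(0, 0, 0x1115, 2, 0x161215), (0, 2, 0, 0, 0), (0x1115, 2, 0, 2, 0x161215), (18, 2, 19, 2, 0x171615), (17, 2, 19, 1, 0x14171615), (0, 1, 0x1316, 2, 0x131612), (20, 2, 0x1315, 2, 0x1412), (22, 2, 18, 2, 0x1416)], 2⟩
def L3 : Level := ⟨0x7f0000, 0x7ff000, [20, 21, 18, 22, 23], 48, 3, 0, 20, [R3_0, R3_1], [S3_0]⟩
def X3 : Ext := [(12, 14, 0), (14, 0, 0x140e1416), (15, 15, 0)]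

def R2_0 : RepC := ⟨0x1009, 20, [(0x1417, 0x110e14), (0x1415, 0x140d131612), (23, 0x1210131712)],
  [(12, 2, [1, 2, 3]), (4, 2, [1])]⟩
def S2_0 : GenC := ⟨10, [(0x1316, 0xe1417), (0x101412, 0x120e131612), (0xf0d1615, 0x120e1417161215)],
  [(0, 0, 0x150e, 1, 0x120e14171215), (15, 1, 0, 0, 0), (0, 1, 0x160e, 1, 0x170e1615), (0x160d, 1, 13, 1, 0x1612)], 2⟩
def L2 : Level := ⟨0x7ff000, 0x7fff00, [14, 20, 21, 18, 22, 23], 960, 2, 0, 21, [R2_0], [S2_0]⟩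
def X2 : Ext := [(8, 10, 0), (10, 0, 0xe170a1210131716), (11, 11, 0)]

def R1_0 : RepC := ⟨0x908, 21, [(0x160d1415, 0xc150a0d13), (0xd17, 0x17150a120e131615), (0x131612, 0xc150a0f0d1417), (0xf150e1317, 0xb100e141615)],
  [(12, 3, [1, 2, 3, 4]), (21, 3, [1, 2, 3]), (3, 2, [1])]⟩
def S1_0 : GenC := ⟨6, [(0x150a0d14, 0x10090f0e13161215), (0xb0d1416, 0x90f150e17)],
  [(0, 0, 0x1509, 1, 0x10090e13171615), (0x100a, 1, 0, 0, 0x100a0f0e131612), (0, 1, 0xc150a, 1, 0xe141215)], 4⟩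
def L1 : Level := ⟨0x7fff00, 0x7ffff0, [10, 14, 20, 21, 18, 22, 23], 20160, 1, 0, 22, [R1_0], [S1_0]⟩
def X1 : Ext := [(4, 6, 0), (6, 0, 0x12061509100e1315), (7, 7, 0)]

def R0_0 : RepC := ⟨0x502, 22, [(0xf0a14171215, 0x50c150a0d1417), (0x17090f16, 0x10060f0912101417161215), (0xc131712, 0x1007170a120e1416), (0x15090d15, 0xc060b17120e141215), (0xa0f0d141715, 0xe060c0a121014171615)],
  [(6, 3, [1, 2, 3, 4, 5]), (11, 3, [1, 2, 3, 4]), (4, 2, [1, 2, 3]), (10, 2, [1])]⟩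
def S0_0 : GenC := ⟨2, [(0xc080c0a100e13, 0x150612150a170e1315), (0xd0709110e14, 0x70615090f150e16)],
  [(0, 0, 6, 1, 0), (0x706, 1, 0, 0, 0x1506110a0e150e17161215), (0, 1, 0x1006, 1, 0xf061009121013161215)], 4⟩
def L0 : Level := ⟨0x7ffff0, 0x7fffff, [6, 10, 14, 20, 21, 18, 22, 23], 443520, 0, 0, 23, [R0_0], [S0_0]⟩
def X0 : Ext := [(0, 2, 0), (2, 0, 0x1102140712150a0f0d1312), (3, 3, 0)]

def top : List ℕ := [1, 3]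
def gs : List ℕ := [2, 6, 10, 14, 20, 21, 18, 22, 23]
def XD : Ext := [(1, 1, 0), (3, 3, 0), (4, 0, 0x204040101), (5, 5, 0), (6, 0, 0x402030103), (7, 7, 0), (8, 0, 0x8060808060805), (9, 9, 0), (10, 0, 0x608060806080806), (11, 11, 0), (12, 0, 0xb0b0a0c0c0a), (13, 13, 0), (14, 0, 0x90c0c090c0c09), (15, 15, 0), (16, 0, 0x100e10100e100d), (17, 0, 0xe0f0d100d10100e), (18, 0, 0x10100e0f0d), (19, 19, 0), (20, 0, 0x14111213), (21, 0, 0x1112), (22, 0, 0x13111313)]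

/-- all the equations of the certificate -/
structure Eqs {G : Type*} [Group G] (g : ℕ → G) : Prop where
  l5 : AllHold g L5.eqns
  x5 : AllHold g X5.eqns
  l4 : AllHold g L4.eqns
  x4 : AllHold g X4.eqns
  l3 : AllHold g L3.eqns
  x3 : AllHold g X3.eqns
  l2 : AllHold g L2.eqns
  x2 : AllHold g X2.eqns
  l1 : AllHold g L1.eqns
  x1 : AllHold g X1.eqns
  l0 : AllHold g L0.eqns
  x0 : AllHold g X0.eqns
  xd : AllHold g XD.eqns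

end CfsgLib.MultC.M23.C
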